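import Groth.Agent.Takeuchi.Const

/-!
# The kernel of `G → G/N` preserves every line preserved by `N`
-/

set_option autoImplicit false

universe u w

open TensorProduct WithConv

noncomputable section

namespace Groth.Agent.Takeuchi

variable {k : Type u} [Field k] {A : Type u} [CommRing A] [HopfAlgebra k A]
variable {V : Type w} [AddCommGroup V] [Module k V] [HopfRep.Comod k A V]
variable {R R' : Type u} [CommRing R] [Algebra k R] [CommRing R'] [Algebra k R']

/-- The action of a point. -/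
def act (g : Pt k A R) : V →ₗ[k] V ⊗[k] R :=
  g.ofConv.toLinearMap.lTensor V ∘ₗ HopfRep.Comod.coact (k := k) (A := A)

/-- Multiplication by a scalar. -/
def sR (r : R) : V ⊗[k] R →ₗ[k] V ⊗[k] R := (LinearMap.mulRight k r).lTensor V

@[simp] theorem sR_tmul (r : R) (v : V) (s : R) : sR r (v ⊗ₜ[k] s) = v ⊗ₜ[k] (s * r) := rfl

/-- The semilinear extension of the action. -/
def actR (g : Pt k A R) : V ⊗[k] R →ₗ[k] V ⊗[k] R :=
  (LinearMap.mul' k R).lTensor V ∘ₗ (TensorProduct.assoc k V R R).toLinearMap ∘ₗ (act g).rTensor R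

theorem actR_tmul (g : Pt k A R) (v : V) (r : R) : actR g (v ⊗ₜ[k] r) = sR r (act g v) := by
  simp only [actR, LinearMap.comp_apply, LinearMap.rTensor_tmul, LinearEquiv.coe_coe]
  generalize act g v = t
  induction t using TensorProduct.induction_on with
  | zero => simp
  | tmul x y => simp
  | add x y hx hy => simp only [TensorProduct.add_tmul, map_add, hx, hy]

theorem sR_sR (r s : R) (z : V ⊗[k] R) : sR r (sR s z) = sR (s * r) z := by
  induction z using TensorProduct.induction_on with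
  | zero => simp
  | tmul x y => simp [mul_assoc]
  | add x y hx hy => simp only [map_add, hx, hy]

theorem act_one (v : V) : act (1 : Pt k A R) v = v ⊗ₜ[k] (1 : R) := by
  have h := LinearMap.congr_fun (HopfRep.Comod.counit_comp (k := k) (A := A) (V := V)) v
  have e : (1 : Pt k A R).ofConv.toLinearMap = Algebra.linearMap k R ∘ₗ CoalgebraStruct.counit :=
    LinearMap.ext fun a => one_apply a
  rw [act, LinearMap.comp_apply, e, LinearMap.lTensor_comp, LinearMap.comp_apply]
  rw [LinearMap.comp_apply] at h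
  rw [h]
  simp

theorem act_mul (g h : Pt k A R) (v : V) : act (g * h) v = actR g (act h v) := by
  let L : A ⊗[k] A →ₐ[k] R := Algebra.TensorProduct.lift g.ofConv h.ofConv fun _ _ => Commute.all _ _
  have e : (g * h).ofConv.toLinearMap = L.toLinearMap ∘ₗ CoalgebraStruct.comul :=
    LinearMap.ext fun a => mul_apply g h a
  have hc := LinearMap.congr_fun (HopfRep.Comod.coassoc (k := k) (A := A) (V := V)) v
  simp only [LinearMap.comp_apply, LinearEquiv.coe_coe] at hc
  rw [act, LinearMap.comp_apply, e, LinearMap.lTensor_comp, LinearMap.comp_apply, ← hc]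
  change _ = actR g (h.ofConv.toLinearMap.lTensor V (HopfRep.Comod.coact v))
  generalize HopfRep.Comod.coact (k := k) (A := A) v = t
  induction t using TensorProduct.induction_on with
  | zero => simp
  | tmul x a =>
    rw [LinearMap.rTensor_tmul, LinearMap.lTensor_tmul, actR_tmul, act, LinearMap.comp_apply]
    generalize HopfRep.Comod.coact (k := k) (A := A) x = s
    induction s using TensorProduct.induction_on with
    | zero => simp
    | tmul y b => simp [L]
    | add p q hp hq => simp only [TensorProduct.add_tmul, map_add, hp, hq]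
  | add p q hp hq => simp only [map_add, hp, hq]

theorem push_act (φ : R →ₐ[k] R') (g : Pt k A R) (v : V) :
    φ.toLinearMap.lTensor V (act g v) = act (push φ g) v := by
  rw [act, act, LinearMap.comp_apply, LinearMap.comp_apply, ← LinearMap.comp_apply, ← LinearMap.lTensor_comp]
  rfl

/-- A coordinate. -/
def cf (l : V →ₗ[k] k) : V ⊗[k] R →ₗ[k] R := (TensorProduct.lid k R).toLinearMap ∘ₗ l.rTensor R

@[simp] theorem cf_tmul (l : V →ₗ[k] k) (v : V) (r : R) : cf l (v ⊗ₜ[k] r) = l v • r := rfl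

theorem cf_sR (l : V →ₗ[k] k) (r : R) (z : V ⊗[k] R) : cf l (sR r z) = cf l z * r := by
  induction z using TensorProduct.induction_on with
  | zero => simp
  | tmul x y => simp
  | add x y hx hy => simp only [map_add, hx, hy, add_mul]

theorem cf_map (l : V →ₗ[k] k) (φ : R →ₐ[k] R') (z : V ⊗[k] R) :
    cf l (φ.toLinearMap.lTensor V z) = φ (cf l z) := by
  induction z using TensorProduct.induction_on with
  | zero => simp
  | tmul x y => simp
  | add x y hx hy => simp only [map_add, hx, hy]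

theorem cf_ext {z z' : V ⊗[k] R} (h : ∀ l : V →ₗ[k] k, cf l z = cf l z') : z = z' := by
  classical
  let b := Module.Basis.ofVectorSpace k V
  apply (TensorProduct.equivFinsuppOfBasisLeft b).injective
  ext i
  have key : ∀ y : V ⊗[k] R, TensorProduct.equivFinsuppOfBasisLeft b y i = cf (b.coord i) y := by
    intro y
    induction y using TensorProduct.induction_on with
    | zero => simp
    | tmul x r => simp
    | add x y hx hy => simp only [map_add, Finsupp.add_apply, hx, hy]
  rw [key, key, h]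

variable (I : Ideal A) [I.IsHopfIdeal k] (χ : A)

variable (k V) in
/-- The eigenspace of a character of the subgroup. -/
abbrev eigMap : V →ₗ[k] V ⊗[k] (A ⧸ I) :=
  act (toConv (Ideal.Quotient.mkₐ k I) : Pt k A (A ⧸ I)) -
    (TensorProduct.mk k V (A ⧸ I)).flip (Ideal.Quotient.mk I χ)

variable {I χ}

theorem act_eig {w : V} (hw : eigMap k V I χ w = 0) {h : Pt k A R} (hh : InN I h) :
    act h w = w ⊗ₜ[k] h χ := by
  rw [LinearMap.sub_apply, sub_eq_zero] at hw
  have := congrArg ((bar hh).toLinearMap.lTensor V) hw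
  rw [push_act] at this
  rw [← bar_comp hh]
  exact this

/-- The span of the eigenvectors after base change. -/
abbrev eigR (R : Type u) [CommRing R] [Algebra k R] : Submodule k (V ⊗[k] R) :=
  LinearMap.range ((LinearMap.ker (eigMap k V I χ)).subtype.rTensor R)

theorem actR_eigR {z : V ⊗[k] R} (hz : z ∈ eigR (I := I) (χ := χ) R) {h : Pt k A R} (hh : InN I h) :
    actR h z = sR (h χ) z := by
  obtain ⟨t, rfl⟩ := hz
  induction t using TensorProduct.induction_on with
  | zero => simp
  | tmul x y =>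
    rw [LinearMap.rTensor_tmul, actR_tmul, Submodule.subtype_apply, act_eig x.2 hh, sR_tmul, sR_tmul, mul_comm]
  | add x y hx hy => simp only [map_add, hx, hy]

theorem mem_eigR {z : V ⊗[k] R}
    (h : actR (push Algebra.TensorProduct.includeLeft (toConv (Ideal.Quotient.mkₐ k I) : Pt k A (A ⧸ I)))
        ((Algebra.TensorProduct.includeRight : R →ₐ[k] (A ⧸ I) ⊗[k] R).toLinearMap.lTensor V z) =
      sR (Ideal.Quotient.mk I χ ⊗ₜ[k] (1 : R))
        ((Algebra.TensorProduct.includeRight : R →ₐ[k] (A ⧸ I) ⊗[k] R).toLinearMap.lTensor V z)) :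
    z ∈ eigR (I := I) (χ := χ) R := by
  have hex : Function.Exact ((LinearMap.ker (eigMap k V I χ)).subtype.rTensor R) ((eigMap k V I χ).rTensor R) :=
    Module.Flat.rTensor_exact R (LinearMap.exact_subtype_ker_map _)
  refine (hex z).1 ((TensorProduct.assoc k V (A ⧸ I) R).injective ?_)
  have e : ∀ w : V ⊗[k] R, TensorProduct.assoc k V (A ⧸ I) R ((eigMap k V I χ).rTensor R w) =
      actR (push Algebra.TensorProduct.includeLeft (toConv (Ideal.Quotient.mkₐ k I) : Pt k A (A ⧸ I)))
        ((Algebra.TensorProduct.includeRight : R →ₐ[k] (A ⧸ I) ⊗[k] R).toLinearMap.lTensor V w) -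
      sR (Ideal.Quotient.mk I χ ⊗ₜ[k] (1 : R))
        ((Algebra.TensorProduct.includeRight : R →ₐ[k] (A ⧸ I) ⊗[k] R).toLinearMap.lTensor V w) := by
    intro w
    induction w using TensorProduct.induction_on with
    | zero => simp
    | tmul x r =>
      rw [LinearMap.rTensor_tmul, LinearMap.sub_apply, TensorProduct.sub_tmul, map_sub, LinearMap.lTensor_tmul,
        actR_tmul, ← push_act]
      congr 1
      · generalize act (toConv (Ideal.Quotient.mkₐ k I) : Pt k A (A ⧸ I)) x = s
        induction s using TensorProduct.induction_on with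
        | zero => simp
        | tmul y b => simp
        | add p q hp hq => simp only [TensorProduct.add_tmul, map_add, hp, hq]
      · simp
    | add p q hp hq => simp only [map_add, hp, hq]; abel
  rw [e, h, sub_self, map_zero]

variable {v : V}

/-- The character is multiplicative. -/
theorem chi_mul (hv0 : v ≠ 0) (hv : eigMap k V I χ v = 0) {g h : Pt k A R} (hg : InN I g) (hh : InN I h) :
    (g * h) χ = g χ * h χ := by
  obtain ⟨l, hl⟩ := Module.Projective.exists_dual_eq_one k hv0
  have := act_mul g h v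
  rw [act_eig hv (hg.mul hh), act_eig hv hh, actR_tmul, act_eig hv hg, sR_tmul] at this
  simpa [hl] using congrArg (cf l) this

theorem chi_one (hv0 : v ≠ 0) (hv : eigMap k V I χ v = 0) : (1 : Pt k A R) χ = 1 := by
  obtain ⟨l, hl⟩ := Module.Projective.exists_dual_eq_one k hv0
  have := act_eig hv (inN_one (R := R))
  rw [act_one] at this
  simpa [hl] using (congrArg (cf l) this).symm

/-- The character is fixed by the kernel. -/
theorem chi_conj (hI : SGA3.IsNormalHopfIdeal k A I) (hv0 : v ≠ 0) (hv : eigMap k V I χ v = 0)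
    {g h : Pt k A R} (hg : InK (inv k I) g) (hh : InN I h) : (g * h * g⁻¹) χ = h χ := by
  let M := A ⧸ I
  let G0 : Pt k A (A ⊗[k] (A ⧸ I)) := ptL (A ⧸ I)
  let H0 : Pt k A (A ⊗[k] (A ⧸ I)) := ptN I A
  let F : A ⊗[k] (A ⧸ I) := (G0 * H0 * G0⁻¹) χ
  have hF : (dlin k I).rTensor (A ⧸ I) F = 0 := by
    let T1 : A ⊗[k] (A ⧸ I) →ₐ[k] (A ⊗[k] (A ⧸ I)) ⊗[k] (A ⧸ I) :=
      Algebra.TensorProduct.map (dbar (k := k) I) (AlgHom.id k _)
    let T0 : A ⊗[k] (A ⧸ I) →ₐ[k] (A ⊗[k] (A ⧸ I)) ⊗[k] (A ⧸ I) :=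
      Algebra.TensorProduct.map (Algebra.TensorProduct.includeLeft : A →ₐ[k] A ⊗[k] (A ⧸ I)) (AlgHom.id k _)
    have e : ∀ z, (dlin k I).rTensor (A ⧸ I) z = T1 z - T0 z := by
      intro z
      induction z using TensorProduct.induction_on with
      | zero => simp
      | tmul x y =>
        simp only [LinearMap.rTensor_tmul, dlin, LinearMap.sub_apply, TensorProduct.sub_tmul]
        rfl
      | add x y hx hy => simp only [map_add, hx, hy]; abel
    rw [e, sub_eq_zero]
    let g1 : Pt k A ((A ⊗[k] (A ⧸ I)) ⊗[k] (A ⧸ I)) := push Algebra.TensorProduct.includeLeft (ptL (A ⧸ I))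
    let n1 : Pt k A ((A ⊗[k] (A ⧸ I)) ⊗[k] (A ⧸ I)) := push Algebra.TensorProduct.includeLeft (ptN (k := k) I A)
    let h1 : Pt k A ((A ⊗[k] (A ⧸ I)) ⊗[k] (A ⧸ I)) := push (R' := (A ⊗[k] (A ⧸ I)) ⊗[k] (A ⧸ I)) T0 H0
    have eG1 : push (R' := (A ⊗[k] (A ⧸ I)) ⊗[k] (A ⧸ I)) T1 G0 = g1 * n1 := by
      rw [← push_mul]
      refine WithConv.ext (AlgHom.ext fun a => ?_)
      change T1 (a ⊗ₜ[k] (1 : A ⧸ I)) = (Algebra.TensorProduct.includeLeft : A ⊗[k] (A ⧸ I) →ₐ[k] (A ⊗[k] (A ⧸ I)) ⊗[k] (A ⧸ I)) ((ptL (k := k) (A := A) (A ⧸ I) * ptN (k := k) I A : Pt k A _).ofConv a)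
      rw [← dbar_eq]
      simp [T1]
    have eG0 : push (R' := (A ⊗[k] (A ⧸ I)) ⊗[k] (A ⧸ I)) T0 G0 = g1 := WithConv.ext (AlgHom.ext fun a => by simp [T0, G0, g1])
    have eH1 : push (R' := (A ⊗[k] (A ⧸ I)) ⊗[k] (A ⧸ I)) T1 H0 = h1 := WithConv.ext (AlgHom.ext fun a => by
      simp [T1, T0, H0, h1, Algebra.TensorProduct.one_def])
    have hn : InN I n1 := (inN_ptN I A).push _
    have hh1 : InN I h1 := (inN_ptN I A).push _
    suffices hh2 : (push (R' := (A ⊗[k] (A ⧸ I)) ⊗[k] (A ⧸ I)) T1 (G0 * H0 * G0⁻¹)) χ = (push (R' := (A ⊗[k] (A ⧸ I)) ⊗[k] (A ⧸ I)) T0 (G0 * H0 * G0⁻¹)) χ from hh2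
    have e3 : push (R' := (A ⊗[k] (A ⧸ I)) ⊗[k] (A ⧸ I)) T1 (G0 * H0 * G0⁻¹) = g1 * n1 * h1 * (g1 * n1)⁻¹ := by
      rw [push_mul, push_mul, push_inv, eG1, eH1]
    have e4 : push (R' := (A ⊗[k] (A ⧸ I)) ⊗[k] (A ⧸ I)) T0 (G0 * H0 * G0⁻¹) = g1 * h1 * g1⁻¹ := by
      rw [push_mul, push_mul, push_inv, eG0]
    refine (congrArg (fun q : Pt k A ((A ⊗[k] (A ⧸ I)) ⊗[k] (A ⧸ I)) => q χ) e3).trans (Eq.trans ?_ (congrArg (fun q : Pt k A ((A ⊗[k] (A ⧸ I)) ⊗[k] (A ⧸ I)) => q χ) e4).symm)

    rw [show g1 * n1 * h1 * (g1 * n1)⁻¹ = (g1 * n1 * g1⁻¹) * (g1 * h1 * g1⁻¹) * (g1 * n1 * g1⁻¹)⁻¹ by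
      simp [mul_assoc]]
    rw [chi_mul hv0 hv ((hn.conj hI g1).mul (hh1.conj hI g1)) (hn.conj hI g1).inv,
      chi_mul hv0 hv (hn.conj hI g1) (hh1.conj hI g1), mul_comm ((g1 * n1 * g1⁻¹) χ), mul_assoc,
      ← chi_mul hv0 hv (hn.conj hI g1) (hn.conj hI g1).inv, mul_inv_cancel, chi_one hv0 hv, mul_one]
  obtain ⟨t, ht⟩ := (Module.Flat.rTensor_exact (A ⧸ I) (exact_dlin I) F).1 hF
  let L (p : Pt k A R) : A ⊗[k] (A ⧸ I) →ₐ[k] R :=
    Algebra.TensorProduct.lift p.ofConv (bar hh) fun _ _ => Commute.all _ _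
  have hL : ∀ p : Pt k A R, L p F = (p * h * p⁻¹) χ := by
    intro p
    suffices hh2 : (push (L p) (G0 * H0 * G0⁻¹)) χ = (p * h * p⁻¹) χ from hh2
    have h1 : push (L p) G0 = p := WithConv.ext (AlgHom.ext fun a => by simp [L, G0])
    have h2 : push (L p) H0 = h := WithConv.ext (AlgHom.ext fun a => by simp [L, H0] <;> rfl)
    have e3 : push (L p) (G0 * H0 * G0⁻¹) = p * h * p⁻¹ := by
      rw [push_mul, push_mul, push_inv, h1, h2]
    exact congrArg (fun q : Pt k A R => q χ) e3
  have hsame : ∀ s, L g ((inv k I).val.toLinearMap.rTensor (A ⧸ I) s) =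
      L 1 ((inv k I).val.toLinearMap.rTensor (A ⧸ I) s) := by
    intro s
    induction s using TensorProduct.induction_on with
    | zero => simp
    | tmul b y =>
      simp only [LinearMap.rTensor_tmul, L, AlgHom.toLinearMap_apply, Algebra.TensorProduct.lift_tmul,
        Subalgebra.coe_val]
      rw [hg b b.2, one_apply]
    | add p q hp hq => simp only [map_add, hp, hq]
  have := hsame t
  rw [ht, hL, hL] at this
  simpa using this

/-- Translates of eigenvectors by the kernel are eigenvectors. -/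
theorem act_mem_eigR (hI : SGA3.IsNormalHopfIdeal k A I) (hv0 : v ≠ 0) (hv : eigMap k V I χ v = 0)
    {g : Pt k A R} (hg : InK (inv k I) g) {w : V} (hw : eigMap k V I χ w = 0) :
    act g w ∈ eigR (I := I) (χ := χ) R := by
  refine mem_eigR ?_
  rw [push_act]
  let h : Pt k A ((A ⧸ I) ⊗[k] R) :=
    push Algebra.TensorProduct.includeLeft (toConv (Ideal.Quotient.mkₐ k I) : Pt k A (A ⧸ I))
  let g' : Pt k A ((A ⧸ I) ⊗[k] R) := push Algebra.TensorProduct.includeRight g
  have hh : InN I h := inN_mk.push _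
  have hg' : InK (inv k I) g' := hg.push _
  change actR h (act g' w) = sR (h χ) (act g' w)
  rw [← act_mul, show h * g' = g' * (g'⁻¹ * h * g') by simp [mul_assoc], act_mul, act_eig hw (hh.conj' hI g'),
    actR_tmul]
  congr 2
  have := chi_conj hI hv0 hv (hg'.inv (isSubHopf_inv hI)) hh
  simpa using this

/-- **The kernel of `G → G/N` stabilises every line stabilised by `N`.** -/
theorem stabilizesLine_of_inK (hI : SGA3.IsNormalHopfIdeal k A I) (hv0 : v ≠ 0)
    (hv : eigMap k V I χ v = 0) {g : Pt k A R} (hg : InK (inv k I) g) :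
    ∃ c : R, act g v = v ⊗ₜ[k] c := by
  have hB := isSubHopf_inv hI
  obtain ⟨l, hl⟩ := Module.Projective.exists_dual_eq_one k hv0
  let X : Pt k A A := toConv (AlgHom.id k A)
  have key : ∀ (m m' : V →ₗ[k] k) (S : Type u) [CommRing S] [Algebra k S] (p : Pt k A S),
      InK (inv k I) p → cf m (act p v) * cf m' (act p⁻¹ v) = algebraMap k S (m v * m' v) := by
    intro m m' S _ _ p hp
    let f : A := cf m (act X v) * cf m' (act X⁻¹ v)
    have hf : ∀ {Q : Type u} [CommRing Q] [Algebra k Q] (q : Pt k A Q),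
        q f = cf m (act q v) * cf m' (act q⁻¹ v) := by
      intro Q _ _ q
      have h1 : push q.ofConv X = q := WithConv.ext (AlgHom.comp_id _)
      simp only [f, map_mul, ← cf_map, push_act, push_inv, h1]
    have hinv : ∀ {Q : Type u} [CommRing Q] [Algebra k Q] (q n : Pt k A Q),
        InK (inv k I) q → InN I n → (q * n) f = q f := by
      intro Q _ _ q n hq hn
      rw [hf, hf, mul_inv_rev, act_mul, act_mul, act_eig hv hn, actR_tmul,
        actR_eigR (act_mem_eigR hI hv0 hv (hq.inv hB) hv) hn.inv, cf_sR, cf_sR]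
      have e : n χ * n⁻¹ χ = 1 := by
        rw [← chi_mul hv0 hv hn hn.inv, mul_inv_cancel, chi_one hv0 hv]
      calc cf m (act q v) * n χ * (cf m' (act q⁻¹ v) * n⁻¹ χ)
          = cf m (act q v) * cf m' (act q⁻¹ v) * (n χ * n⁻¹ χ) := by ring
        _ = _ := by rw [e, mul_one]
    have hε : CoalgebraStruct.counit (R := k) f = m v * m' v := by
      have := hf (1 : Pt k A k)
      rw [inv_one, act_one, one_apply] at this
      simpa using this
    rw [← hf, const_of_invariant I hI hinv p hp, hε]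
  refine ⟨cf l (act g v), cf_ext fun m => ?_⟩
  have h1 := key l m R g⁻¹ (hg.inv hB)
  have h2 := key l l R g⁻¹ (hg.inv hB)
  rw [inv_inv] at h1 h2
  rw [hl, one_mul] at h1 h2
  rw [map_one] at h2
  rw [cf_tmul]
  calc cf m (act g v) = cf l (act g v) * (cf l (act g⁻¹ v) * cf m (act g v)) := by
        rw [← mul_assoc, mul_comm (cf l (act g v)), h2, one_mul]
    _ = m v • cf l (act g v) := by rw [h1, Algebra.smul_def, mul_comm]

end Groth.Agent.Takeuchi
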