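import Groth.Prelude.Def_Dyn
import Groth.Prelude.Def_SGA3
import Mathlib.RingTheory.HopfAlgebra.Quotient
import Mathlib.RingTheory.Flat.Basic

/-!
# Points of affine group schemes killing a Hopf ideal
-/

set_option autoImplicit false

universe u

open TensorProduct WithConv

noncomputable section

namespace Groth.Agent.Takeuchi

variable {k : Type u} [CommRing k] {A : Type u} [CommRing A] [HopfAlgebra k A]

/-- Points with values in `R`. -/
abbrev Pt (k : Type u) [CommRing k] (A : Type u) [CommRing A] [HopfAlgebra k A]
    (R : Type u) [CommRing R] [Algebra k R] : Type u := WithConv (A →ₐ[k] R)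

variable {R R' : Type u} [CommRing R] [Algebra k R] [CommRing R'] [Algebra k R']

theorem inv_mul_cancel' (f : Pt k A R) : toConv (f.ofConv.comp (HopfAlgebra.antipodeAlgHom k A)) * f = 1 := by
  have h := congrArg (fun g : WithConv (A →ₐ[k] A) => toConv (f.ofConv.comp g.ofConv))
    (AlgHom.antipode_id_cancel (R := k) (A := A))
  simp only [AlgHom.comp_convMul_distrib] at h
  refine h.trans (WithConv.ext (AlgHom.ext fun x => ?_))
  show f.ofConv ((1 : WithConv (A →ₐ[k] A)) x) = (1 : WithConv (A →ₐ[k] R)) x
  rw [AlgHom.convOne_apply, AlgHom.convOne_apply, AlgHom.commutes]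

/-- Points of a group with values in any algebra form a group. -/
scoped instance ptGroup : Group (Pt k A R) where
  inv f := toConv (f.ofConv.comp (HopfAlgebra.antipodeAlgHom k A))
  inv_mul_cancel := inv_mul_cancel'

/-- Change of the ring of values. -/
abbrev push (φ : R →ₐ[k] R') (g : Pt k A R) : Pt k A R' := toConv (φ.comp g.ofConv)

theorem push_mul (φ : R →ₐ[k] R') (g h : Pt k A R) : push φ (g * h) = push φ g * push φ h :=
  WithConv.ext (AlgHom.comp_convMul_distrib φ g h)

theorem push_one (φ : R →ₐ[k] R') : push φ (1 : Pt k A R) = 1 :=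
  WithConv.ext (AlgHom.ext fun a => by simp [AlgHom.convOne_def])

theorem push_inv (φ : R →ₐ[k] R') (g : Pt k A R) : push φ g⁻¹ = (push φ g)⁻¹ :=
  WithConv.ext (AlgHom.comp_assoc φ g.ofConv (HopfAlgebra.antipodeAlgHom k A)).symm

theorem one_apply (a : A) : (1 : Pt k A R) a = algebraMap k R (CoalgebraStruct.counit a) :=
  AlgHom.convOne_apply a

theorem inv_apply (g : Pt k A R) (a : A) : g⁻¹ a = g (HopfAlgebraStruct.antipode (R := k) a) := rfl

theorem mul_apply (g h : Pt k A R) (a : A) : (g * h) a =
    Algebra.TensorProduct.lift g.ofConv h.ofConv (fun _ _ => Commute.all _ _)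
      (CoalgebraStruct.comul (R := k) a) := by
  rw [AlgHom.convMul_apply]

theorem conv3_eq (f g h : A →ₐ[k] R) : Dyn.conv3 k A f g h = (toConv f * toConv g * toConv h).ofConv := by
  have e : ∀ z : A ⊗[k] A,
      Algebra.TensorProduct.lmul' (S := R) k (Algebra.TensorProduct.map ((Algebra.TensorProduct.lmul' (S := R) k).comp
        (Algebra.TensorProduct.map f g)) h (Algebra.TensorProduct.map (Bialgebra.comulAlgHom k A) (AlgHom.id k A) z)) =
      Algebra.TensorProduct.lift (toConv f * toConv g).ofConv h (fun _ _ => Commute.all _ _) z := by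
    intro z
    induction z using TensorProduct.induction_on with
    | zero => simp
    | tmul x y =>
      simp only [Algebra.TensorProduct.map_tmul, Algebra.TensorProduct.lmul'_apply_tmul, AlgHom.coe_comp,
        Function.comp_apply, AlgHom.coe_id, id_eq, Algebra.TensorProduct.lift_tmul]
      rfl
    | add x y hx hy => simp only [map_add, hx, hy]
  refine AlgHom.ext fun a => ?_
  refine Eq.trans ?_ (mul_apply _ _ a).symm
  exact e _

/-- The points killing an ideal. -/
def InN (I : Ideal A) (h : Pt k A R) : Prop := ∀ a ∈ I, h a = 0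

variable {I : Ideal A}

theorem InN.push {h : Pt k A R} (hh : InN I h) (φ : R →ₐ[k] R') : InN I (push φ h) :=
  fun a ha => by
    change φ (h a) = 0
    rw [hh a ha, map_zero]

section Hopf

variable [I.IsHopfIdeal k]

theorem inN_mk : InN I (toConv (Ideal.Quotient.mkₐ k I) : Pt k A (A ⧸ I)) :=
  fun _ ha => Ideal.Quotient.eq_zero_iff_mem.2 ha

/-- A point killing the ideal, as a point of the quotient. -/
abbrev bar {h : Pt k A R} (hh : InN I h) : A ⧸ I →ₐ[k] R := Ideal.Quotient.liftₐ I h.ofConv hh

theorem bar_comp {h : Pt k A R} (hh : InN I h) : toConv ((bar hh).comp (Ideal.Quotient.mkₐ k I)) = h :=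
  WithConv.ext (AlgHom.ext fun _ => rfl)

theorem inN_one : InN I (1 : Pt k A R) := fun a ha => by
  rw [one_apply, (inferInstance : (I.restrictScalars k).IsCoideal).counit_eq_zero ha, map_zero]

theorem InN.inv {h : Pt k A R} (hh : InN I h) : InN I h⁻¹ := fun a ha => by
  rw [inv_apply]
  exact hh _ (Ideal.IsHopfIdeal.antipode_mem ha)

theorem InN.mul {g h : Pt k A R} (hg : InN I g) (hh : InN I h) : InN I (g * h) := fun a ha => by
  have h0 := (inferInstance : (I.restrictScalars k).IsCoideal).map_mkQ_comul_eq_zero ha
  have e : ∀ z : A ⊗[k] A, Algebra.TensorProduct.lift g.ofConv h.ofConv (fun _ _ => Commute.all _ _) z =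
      LinearMap.mul' k R (TensorProduct.map ((I.restrictScalars k).liftQ g.ofConv.toLinearMap fun x hx => hg x hx)
        ((I.restrictScalars k).liftQ h.ofConv.toLinearMap fun x hx => hh x hx)
        (TensorProduct.map (I.restrictScalars k).mkQ (I.restrictScalars k).mkQ z)) := by
    intro z
    induction z using TensorProduct.induction_on with
    | zero => simp
    | tmul x y => simp only [Algebra.TensorProduct.lift_tmul, TensorProduct.map_tmul, LinearMap.mul'_apply]; rfl
    | add x y hx hy => simp only [map_add, hx, hy]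
  rw [mul_apply, e, h0, map_zero, map_zero]

end Hopf

/-- Normality, for points. -/
theorem InN.conj (hI : SGA3.IsNormalHopfIdeal k A I) {h : Pt k A R} (hh : InN I h) (g : Pt k A R) :
    InN I (g * h * g⁻¹) := fun a ha => by
  have := hI R g.ofConv h.ofConv hh a ha
  rw [conv3_eq] at this
  exact this

theorem InN.conj' (hI : SGA3.IsNormalHopfIdeal k A I) {h : Pt k A R} (hh : InN I h) (g : Pt k A R) :
    InN I (g⁻¹ * h * g) := by
  simpa using hh.conj hI g⁻¹

end Groth.Agent.Takeuchi
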