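import Groth.Agent.Takeuchi.Scheme

/-!
# Affine quotients of affine algebraic groups
-/

set_option autoImplicit false

universe u

open CategoryTheory CategoryTheory.Limits MonoidalCategory CartesianMonoidalCategory MonObj GrpObj AlgebraicGeometry

namespace Groth.Agent.Takeuchi

variable {k : Type u} [Field k]

set_option backward.isDefEq.respectTransparency false in
set_option backward.isDefEq.respectTransparency.types false in
/-- A normal closed subgroup of an affine algebraic group is the kernel of a faithfully flat map to an affine one. -/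
theorem exists_affine_quotient (G N : Over (Spec (CommRingCat.of k))) [GrpObj G] [GrpObj N] [IsAffine G.left]
    [LocallyOfFiniteType G.hom] (i : N ⟶ G) [IsMonHom i] [IsClosedImmersion i.left]
    (hN : AlgGrp.IsNormalHom i) :
    ∃ (Q : Over (Spec (CommRingCat.of k))) (_ : GrpObj Q) (q : G ⟶ Q), IsMonHom q ∧ IsAffine Q.left ∧
      LocallyOfFiniteType Q.hom ∧ Flat q.left ∧ Surjective q.left ∧ AlgGrp.IsKernel i q := by
  obtain ⟨A, hA, e, he⟩ := FinHopf.exists_hopf (R := CommRingCat.of k) G
  have hinv : IsMonHom e.inv := inferInstance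
  haveI : IsIso e.hom.left := inferInstanceAs (IsIso ((Over.forget _).map e.hom))
  haveI : IsIso e.inv.left := inferInstanceAs (IsIso ((Over.forget _).map e.inv))
  haveI : Algebra.FiniteType k A := by
    have h0 : LocallyOfFiniteType (e.hom.left ≫ G.hom) := inferInstance
    rw [Over.w e.hom] at h0
    exact RingHom.finiteType_algebraMap.1 ((HasRingHomProperty.Spec_iff (P := @LocallyOfFiniteType)).1 h0)
  let i' : N ⟶ specOv k A := i ≫ e.inv
  haveI : IsClosedImmersion i'.left := inferInstanceAs (IsClosedImmersion (i.left ≫ e.inv.left))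
  haveI : IsMonHom i' := inferInstanceAs (IsMonHom (i ≫ e.inv))
  have hN' : AlgGrp.IsNormalHom i' := fun T g n => by
    obtain ⟨n', hn'⟩ := hN T (g ≫ e.hom) n
    refine ⟨n', ?_⟩
    have h := congrArg (· ≫ e.inv) hn'
    simp only [MonObj.mul_comp, GrpObj.inv_comp, Category.assoc] at h
    erw [e.hom_inv_id, Category.comp_id] at h
    exact h
  obtain ⟨Q, hQ, q, hq, haff, hlft, hflat, hsurj, hker⟩ := exists_quot_spec i' hN'
  refine ⟨Q, hQ, e.inv ≫ q, inferInstanceAs (IsMonHom (e.inv ≫ q)), haff, hlft, ?_, ?_, ?_⟩
  · exact inferInstanceAs (Flat (e.inv.left ≫ q.left))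
  · exact inferInstanceAs (Surjective (e.inv.left ≫ q.left))
  · exact hker.of_iso (Iso.refl _) e (Iso.refl _) (Iso.refl _) (by simp [i']) (by simp) (by simp) (by simp)

end Groth.Agent.Takeuchi
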