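import Groth.Agent.Takeuchi.Points
import Groth.Agent.Comod.FlatSub

/-!
# The functions invariant under a normal subgroup form a sub-Hopf algebra
-/

set_option autoImplicit false

universe u

open TensorProduct WithConv

noncomputable section

namespace Groth.Agent.Takeuchi

variable {k : Type u} [Field k] {A : Type u} [CommRing A] [HopfAlgebra k A] (I : Ideal A)

/-- The coaction of a closed subgroup on functions. -/
abbrev dbar : A →ₐ[k] A ⊗[k] (A ⧸ I) :=
  (Algebra.TensorProduct.map (AlgHom.id k A) (Ideal.Quotient.mkₐ k I)).comp (Bialgebra.comulAlgHom k A)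

variable (k) in
/-- The invariant functions. -/
def inv : Subalgebra k A := AlgHom.equalizer (dbar (k := k) I) Algebra.TensorProduct.includeLeft

theorem mem_inv {a : A} : a ∈ inv k I ↔ dbar (k := k) I a = a ⊗ₜ (1 : A ⧸ I) := Iff.rfl

variable (k) in
/-- The defining map of the invariant functions. -/
abbrev dlin : A →ₗ[k] A ⊗[k] (A ⧸ I) :=
  (dbar (k := k) I).toLinearMap - (Algebra.TensorProduct.includeLeft : A →ₐ[k] A ⊗[k] (A ⧸ I)).toLinearMap

theorem exact_dlin : Function.Exact (inv k I).val.toLinearMap (dlin k I) := by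
  intro a
  rw [LinearMap.sub_apply, sub_eq_zero]
  exact ⟨fun h => ⟨⟨a, h⟩, rfl⟩, fun ⟨b, hb⟩ => hb ▸ b.2⟩

/-- The tautological point of `A` (in the left factor). -/
abbrev ptL (M : Type u) [CommRing M] [Algebra k M] : Pt k A (A ⊗[k] M) :=
  toConv Algebra.TensorProduct.includeLeft

/-- The tautological point of the subgroup (in the right factor). -/
abbrev ptN (M : Type u) [CommRing M] [Algebra k M] : Pt k A (M ⊗[k] (A ⧸ I)) :=
  toConv (Algebra.TensorProduct.includeRight.comp (Ideal.Quotient.mkₐ k I))

theorem inN_ptN (M : Type u) [CommRing M] [Algebra k M] : InN I (ptN (k := k) I M) := fun a ha => by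
  change Algebra.TensorProduct.includeRight (Ideal.Quotient.mk I a) = 0
  rw [Ideal.Quotient.eq_zero_iff_mem.2 ha, map_zero]

theorem dbar_eq : dbar (k := k) I = (ptL (k := k) (A := A) (A ⧸ I) * ptN (k := k) I A : Pt k A _).ofConv := by
  refine AlgHom.ext fun a => Eq.trans ?_ (mul_apply _ _ a).symm
  change Algebra.TensorProduct.map _ _ (CoalgebraStruct.comul a) = _
  generalize CoalgebraStruct.comul (R := k) a = t
  induction t using TensorProduct.induction_on with
  | zero => simp
  | tmul x y => simp
  | add x y hx hy => simp only [map_add, hx, hy]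

variable {I} {R : Type u} [CommRing R] [Algebra k R]

theorem apply_mul_of_mem {a : A} (ha : a ∈ inv k I) (g : Pt k A R) {h : Pt k A R} (hh : InN I h) :
    (g * h) a = g a := by
  let L : A ⊗[k] (A ⧸ I) →ₐ[k] R := Algebra.TensorProduct.lift g.ofConv
    (Ideal.Quotient.liftₐ I h.ofConv hh) fun _ _ => Commute.all _ _
  have h1 : push L (ptL (k := k) (A := A) (A ⧸ I)) = g := WithConv.ext (AlgHom.ext fun x => by simp [L])
  have h2 : push L (ptN I A) = h := WithConv.ext (AlgHom.ext fun x => by simp [L] <;> rfl)
  have := congrArg L (mem_inv I |>.1 ha)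
  rw [dbar_eq] at this
  change (push L (ptL (k := k) (A := A) (A ⧸ I) * ptN (k := k) I A)) a = _ at this
  rw [push_mul, h1, h2] at this
  rw [this]
  simp [L]

theorem mem_inv_of_apply {a : A}
    (h : ((ptL (A ⧸ I) * ptN (k := k) I A : Pt k A _)) a = (ptL (k := k) (A := A) (A ⧸ I)) a) :
    a ∈ inv k I := by
  rw [mem_inv, dbar_eq]
  exact h

theorem apply_of_mem {a : A} (ha : a ∈ inv k I) {h : Pt k A R} (hh : InN I h) :
    h a = algebraMap k R (CoalgebraStruct.counit a) := by
  have := apply_mul_of_mem ha 1 hh
  rwa [one_mul, one_apply] at this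

variable [I.IsHopfIdeal k]

/-- **The invariants of a normal subgroup form a sub-Hopf algebra.** -/
theorem isSubHopf_inv (hI : SGA3.IsNormalHopfIdeal k A I) : Groth.Agent.FlatSub.IsSubHopf k (inv k I) := by
  refine ⟨fun b hb => ?_, fun b hb => ?_⟩
  · let i : inv k I →ₗ[k] A := (inv k I).val.toLinearMap
    -- second factor
    obtain ⟨t, ht⟩ : CoalgebraStruct.comul (R := k) b ∈ LinearMap.range (i.lTensor A) := by
      rw [← (Module.Flat.lTensor_exact A (exact_dlin I)).linearMap_ker_eq, LinearMap.mem_ker, dlin,
        LinearMap.lTensor_sub, LinearMap.sub_apply, sub_eq_zero]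
      let g : Pt k A (A ⊗[k] (A ⊗[k] (A ⧸ I))) := toConv Algebra.TensorProduct.includeLeft
      let h : Pt k A (A ⊗[k] (A ⊗[k] (A ⧸ I))) := push Algebra.TensorProduct.includeRight (ptL (A ⧸ I))
      let n : Pt k A (A ⊗[k] (A ⊗[k] (A ⧸ I))) := push Algebra.TensorProduct.includeRight (ptN I A)
      have e : (g * (h * n)) b = (g * h) b := by
        rw [← mul_assoc]
        exact apply_mul_of_mem hb _ ((inN_ptN I A).push _)
      rw [mul_apply, mul_apply] at e
      have e1 : ∀ z : A ⊗[k] A, (dbar (k := k) I).toLinearMap.lTensor A z =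
          Algebra.TensorProduct.lift g.ofConv (h * n).ofConv (fun x y => Commute.all (S := A ⊗[k] (A ⊗[k] (A ⧸ I))) _ _) z := by
        intro z
        induction z using TensorProduct.induction_on with
        | zero => simp
        | tmul x y =>
          rw [Algebra.TensorProduct.lift_tmul, ← push_mul, LinearMap.lTensor_tmul, AlgHom.toLinearMap_apply, dbar_eq]
          simp [g, Algebra.TensorProduct.includeLeft_apply, Algebra.TensorProduct.includeRight_apply]
        | add x y hx hy => simp only [map_add, hx, hy]
      have e2 : ∀ z : A ⊗[k] A,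
          (Algebra.TensorProduct.includeLeft : A →ₐ[k] A ⊗[k] (A ⧸ I)).toLinearMap.lTensor A z =
            Algebra.TensorProduct.lift g.ofConv h.ofConv (fun x y => Commute.all (S := A ⊗[k] (A ⊗[k] (A ⧸ I))) _ _) z := by
        intro z
        induction z using TensorProduct.induction_on with
        | zero => simp
        | tmul x y => simp [g, h, Algebra.TensorProduct.includeLeft_apply, Algebra.TensorProduct.includeRight_apply]
        | add x y hx hy => simp only [map_add, hx, hy]
      rw [e1, e2]
      exact e
    -- first factor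
    have hsub : ∀ z : A ⊗[k] A, (dlin k I).rTensor A z = (dbar (k := k) I).toLinearMap.rTensor A z -
        (Algebra.TensorProduct.includeLeft : A →ₐ[k] A ⊗[k] (A ⧸ I)).toLinearMap.rTensor A z := by
      intro z
      induction z using TensorProduct.induction_on with
      | zero => simp
      | tmul x y => simp only [LinearMap.rTensor_tmul, dlin, LinearMap.sub_apply, TensorProduct.sub_tmul]
      | add x y hx hy => simp only [map_add, hx, hy]; abel
    have h1 : (dlin k I).rTensor A (CoalgebraStruct.comul (R := k) b) = 0 := by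
      rw [hsub, sub_eq_zero]
      let g : Pt k A ((A ⊗[k] (A ⧸ I)) ⊗[k] A) := push Algebra.TensorProduct.includeLeft (ptL (A ⧸ I))
      let n : Pt k A ((A ⊗[k] (A ⧸ I)) ⊗[k] A) := push Algebra.TensorProduct.includeLeft (ptN I A)
      let h : Pt k A ((A ⊗[k] (A ⧸ I)) ⊗[k] A) := toConv Algebra.TensorProduct.includeRight
      have e : (g * n * h) b = (g * h) b := by
        rw [show g * n * h = g * h * (h⁻¹ * n * h) by simp [mul_assoc]]
        exact apply_mul_of_mem hb _ (((inN_ptN (k := k) I A).push _).conj' hI h)
      rw [mul_apply, mul_apply] at e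
      have e1 : ∀ z : A ⊗[k] A, (dbar (k := k) I).toLinearMap.rTensor A z =
          Algebra.TensorProduct.lift (g * n).ofConv h.ofConv (fun x y => Commute.all (S := (A ⊗[k] (A ⧸ I)) ⊗[k] A) _ _) z := by
        intro z
        induction z using TensorProduct.induction_on with
        | zero => simp
        | tmul x y =>
          rw [Algebra.TensorProduct.lift_tmul, ← push_mul, LinearMap.rTensor_tmul, AlgHom.toLinearMap_apply, dbar_eq]
          simp [h, Algebra.TensorProduct.includeLeft_apply, Algebra.TensorProduct.includeRight_apply]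
        | add x y hx hy => simp only [map_add, hx, hy]
      have e2 : ∀ z : A ⊗[k] A,
          (Algebra.TensorProduct.includeLeft : A →ₐ[k] A ⊗[k] (A ⧸ I)).toLinearMap.rTensor A z =
            Algebra.TensorProduct.lift g.ofConv h.ofConv (fun x y => Commute.all (S := (A ⊗[k] (A ⧸ I)) ⊗[k] A) _ _) z := by
        intro z
        induction z using TensorProduct.induction_on with
        | zero => simp
        | tmul x y => simp [g, h, Algebra.TensorProduct.includeLeft_apply, Algebra.TensorProduct.includeRight_apply]
        | add x y hx hy => simp only [map_add, hx, hy]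
      rw [e1, e2]
      exact e
    have h2 : (dlin k I).rTensor (inv k I) t = 0 := by
      apply Module.Flat.lTensor_preserves_injective_linearMap (M := A ⊗[k] (A ⧸ I)) i Subtype.val_injective
      rw [map_zero, ← LinearMap.comp_apply, LinearMap.lTensor_comp_rTensor, ← LinearMap.rTensor_comp_lTensor,
        LinearMap.comp_apply, ht, h1]
    obtain ⟨s, hs⟩ := (Module.Flat.rTensor_exact (inv k I) (exact_dlin I) t).1 h2
    exact ⟨s, by
      rw [← ht, ← hs, ← LinearMap.comp_apply, LinearMap.lTensor_comp_rTensor]⟩
  · refine mem_inv_of_apply ?_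
    have hn : InN I (ptN (k := k) I A) := inN_ptN I A
    generalize ptN (k := k) I A = n at hn ⊢
    generalize ptL (k := k) (A := A) (A ⧸ I) = g
    rw [← inv_apply, ← inv_apply, mul_inv_rev,
      show n⁻¹ * g⁻¹ = g⁻¹ * (g * n⁻¹ * g⁻¹) by simp [mul_assoc]]
    exact apply_mul_of_mem hb _ (hn.inv.conj hI g)

end Groth.Agent.Takeuchi
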