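import Groth.Agent.Takeuchi.Eigen
import Groth.Agent.Comod.LineStab
import Groth.Agent.Comod.Change
import Groth.Agent.FinHopf.Sub
import Groth.Agent.HopfRange.Sub

/-!
# Takeuchi's theorem: normal subgroups of affine groups are kernels
-/

set_option autoImplicit false

universe u

open TensorProduct WithConv

noncomputable section

namespace Groth.Agent.Takeuchi

variable {k : Type u} [Field k] {A : Type u} [CommRing A] [HopfAlgebra k A]
variable (I : Ideal A) [I.IsHopfIdeal k]

theorem augIdealSpan_inv_le : SGA3.augIdealSpan k A (inv k I) ≤ I := by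
  refine Ideal.span_le.2 ?_
  rintro b ⟨hb, h0⟩
  refine Ideal.Quotient.eq_zero_iff_mem.1 ?_
  have := apply_of_mem hb (inN_mk (k := k) (I := I))
  rw [h0, map_zero] at this
  exact this

omit [I.IsHopfIdeal k] in
theorem inK_mk (B : Subalgebra k A) :
    InK B (toConv (Ideal.Quotient.mkₐ k (SGA3.augIdealSpan k A B)) : Pt k A _) := by
  intro b hb
  refine Ideal.Quotient.eq.2 (Ideal.subset_span ⟨?_, ?_⟩)
  · exact B.sub_mem hb (B.algebraMap_mem _)
  · simp [Bialgebra.counit_algebraMap]

/-- **Takeuchi.** A normal closed subgroup is cut out by the invariant functions. -/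
theorem eq_augIdealSpan (hI : SGA3.IsNormalHopfIdeal k A I) :
    I = SGA3.augIdealSpan k A (inv k I) := by
  refine le_antisymm (fun a ha => ?_) (augIdealSpan_inv_le I)
  obtain ⟨B, haB, hfg, hB⟩ := HopfRange.exists_fg_isSubHopf (k := k) (A := A) {a}
  have hΔ : ∀ b ∈ B, CoalgebraStruct.comul (R := k) b ∈ (FinHopf.subIncl₂ B).range := by
    intro b hb
    obtain ⟨t, ht⟩ := hB.1 b hb
    exact ⟨t, ht⟩
  letI hH : HopfAlgebra k B := FinHopf.subHopf B hΔ hB.2
  let φ : B →ₐc[k] A := BialgHom.ofAlgHom B.val (by ext b; rfl) (FinHopf.subIncl₂_comp_subComul B hΔ)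
  haveI : Algebra.FiniteType k B := B.fg_iff_finiteType.1 hfg
  let I' : Ideal B := I.comap B.val.toRingHom
  let ψ : B ⧸ I'.restrictScalars k →ₗ[k] A ⧸ I.restrictScalars k :=
    (I'.restrictScalars k).mapQ (I.restrictScalars k) B.val.toLinearMap fun x hx => hx
  have hψ : Function.Injective ψ := by
    rw [← LinearMap.ker_eq_bot, LinearMap.ker_eq_bot']
    intro x hx
    induction x using Submodule.Quotient.induction_on with
    | _ x =>
      have hx' : (Submodule.Quotient.mk (x : A) : A ⧸ I.restrictScalars k) = 0 := hx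
      have hm : x ∈ I'.restrictScalars k := (Submodule.Quotient.mk_eq_zero (I.restrictScalars k)).1 hx'
      exact (Submodule.Quotient.mk_eq_zero _).2 hm
  have hε : ∀ x ∈ I', CoalgebraStruct.counit (R := k) x = 0 := fun x hx =>
    (inferInstance : (I.restrictScalars k).IsCoideal).counit_eq_zero (x := (x : A)) hx
  have hΔ' : ∀ x ∈ I', TensorProduct.map (I'.restrictScalars k).mkQ (I'.restrictScalars k).mkQ
      (CoalgebraStruct.comul (R := k) x) = 0 := by
    intro x hx
    apply TensorProduct.map_injective_of_flat_flat ψ ψ hψ hψ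
    rw [map_zero, ← LinearMap.comp_apply, ← TensorProduct.map_comp,
      show ψ ∘ₗ (I'.restrictScalars k).mkQ = (I.restrictScalars k).mkQ ∘ₗ B.val.toLinearMap from rfl,
      TensorProduct.map_comp, LinearMap.comp_apply]
    have := congr($(FinHopf.subIncl₂_comp_subComul B hΔ) x)
    refine Eq.trans (congrArg _ this) ?_
    exact (inferInstance : (I.restrictScalars k).IsCoideal).map_mkQ_comul_eq_zero (x := (x : A)) hx
  obtain ⟨V, _, _, hV, _, v, hv0, hrep⟩ := Comod.LineStab.exists_line I' hε hΔ'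
  letI hA : HopfRep.Comod k A V := Comod.pushforward (φ : B →ₗc[k] A) hV
  have hact : ∀ {R : Type u} [CommRing R] [Algebra k R] (g : Pt k A R),
      act g v = LinearMap.lTensor V (g.ofConv.comp B.val).toLinearMap (hV.coact v) := by
    intro R _ _ g
    change LinearMap.lTensor V g.ofConv.toLinearMap ((φ : B →ₗc[k] A).toLinearMap.lTensor V (hV.coact v)) = _
    rw [← LinearMap.comp_apply, ← LinearMap.lTensor_comp]
    rfl
  obtain ⟨c, hc⟩ := (hrep (A ⧸ I) ((Ideal.Quotient.mkₐ k I).comp B.val)).1 fun x hx =>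
    Ideal.Quotient.eq_zero_iff_mem.2 hx
  obtain ⟨χ, rfl⟩ := Ideal.Quotient.mk_surjective c
  have hv : eigMap k V I χ v = 0 := by
    rw [LinearMap.sub_apply, sub_eq_zero, hact]
    exact hc
  obtain ⟨c', hc'⟩ := stabilizesLine_of_inK hI hv0 hv (inK_mk (k := k) (inv k I))
  rw [hact] at hc'
  exact Ideal.Quotient.eq_zero_iff_mem.1 ((hrep _ _).2 ⟨c', hc'⟩ ⟨a, haB (Finset.mem_singleton_self a)⟩ ha)

end Groth.Agent.Takeuchi
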