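import Groth.Agent.Takeuchi.Inv

/-!
# A function on the kernel of `G → G/N` which is invariant under `N` is constant
-/

set_option autoImplicit false
set_option backward.isDefEq.respectTransparency false

universe u

open TensorProduct WithConv

noncomputable section

namespace Groth.Agent.Takeuchi

variable {k : Type u} [Field k] {A : Type u} [CommRing A] [HopfAlgebra k A]

/-- The points of the kernel of `G → Spec B`. -/
def InK (B : Subalgebra k A) {R : Type u} [CommRing R] [Algebra k R] (g : Pt k A R) : Prop :=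
  ∀ b ∈ B, g b = algebraMap k R (CoalgebraStruct.counit b)

variable {B : Subalgebra k A} {R R' : Type u} [CommRing R] [Algebra k R] [CommRing R'] [Algebra k R']

theorem inK_one : InK B (1 : Pt k A R) := fun b _ => one_apply b

theorem InK.push {g : Pt k A R} (hg : InK B g) (φ : R →ₐ[k] R') : InK B (push φ g) := fun b hb => by
  change φ (g b) = _
  rw [hg b hb, AlgHom.commutes]

theorem InK.inv (hB : Groth.Agent.FlatSub.IsSubHopf k B) {g : Pt k A R} (hg : InK B g) : InK B g⁻¹ :=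
  fun b hb => by rw [inv_apply, hg _ (hB.2 b hb), HopfAlgebra.counit_antipode]

/-- A product only depends on the restrictions of the factors. -/
theorem mul_apply_congr (hB : Groth.Agent.FlatSub.IsSubHopf k B) {p q p' q' : Pt k A R}
    (hp : ∀ b ∈ B, p b = p' b) (hq : ∀ b ∈ B, q b = q' b) {b : A} (hb : b ∈ B) :
    (p * q) b = (p' * q') b := by
  obtain ⟨t, ht⟩ := hB.1 b hb
  rw [mul_apply, mul_apply, ← ht]
  clear ht
  induction t using TensorProduct.induction_on with
  | zero => simp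
  | tmul x y =>
    simp only [TensorProduct.map_tmul, Algebra.TensorProduct.lift_tmul]
    exact congrArg₂ (· * ·) (hp x x.2) (hq y y.2)
  | add x y hx hy => simp only [map_add, hx, hy]

variable (I : Ideal A) [I.IsHopfIdeal k]

/-- **An `N`-invariant function on the kernel is constant.** -/
theorem const_of_invariant (hI : SGA3.IsNormalHopfIdeal k A I) {f : A}
    (hf : ∀ {R : Type u} [CommRing R] [Algebra k R] (g n : Pt k A R),
      InK (inv k I) g → InN I n → (g * n) f = g f)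
    {R : Type u} [CommRing R] [Algebra k R] (g : Pt k A R) (hg : InK (inv k I) g) :
    g f = algebraMap k R (CoalgebraStruct.counit f) := by
  have hB := isSubHopf_inv hI
  haveI : Module.FaithfullyFlat (inv k I) A := Groth.Agent.FlatSub.faithfullyFlat hB
  let B := inv k I
  let i₁ : A →ₐ[k] A ⊗[B] A := Algebra.TensorProduct.includeLeft
  let i₂ : A →ₐ[k] A ⊗[B] A := (Algebra.TensorProduct.includeRight : A →ₐ[B] A ⊗[B] A).restrictScalars k
  let x : Pt k A (A ⊗[B] A) := toConv i₁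
  let y : Pt k A (A ⊗[B] A) := toConv i₂
  have hxy : ∀ b ∈ B, y b = x b := by
    intro b hb
    change (1 : A) ⊗ₜ[B] b = b ⊗ₜ[B] (1 : A)
    rw [show b = (⟨b, hb⟩ : B) • (1 : A) by simp [Algebra.smul_def], ← TensorProduct.smul_tmul]
  have hK : InK B (x⁻¹ * y) := fun b hb => by
    rw [mul_apply_congr hB (p' := x⁻¹) (q' := x) (fun _ _ => rfl) hxy hb, inv_mul_cancel, one_apply]
  let F : A ⊗[B] A := (x⁻¹ * y) f
  -- the coaction, linearly over the invariants
  let dB : A →ₐ[B] A ⊗[k] (A ⧸ I) :=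
    { toRingHom := (dbar (k := k) I).toRingHom
      commutes' := fun b => b.2 }
  let iB : A →ₐ[B] A ⊗[k] (A ⧸ I) := Algebra.TensorProduct.includeLeft
  have hex : Function.Exact (Algebra.linearMap B A) (dB.toLinearMap - iB.toLinearMap) := by
    intro a
    rw [LinearMap.sub_apply, sub_eq_zero]
    exact ⟨fun h => ⟨⟨a, h⟩, rfl⟩, fun ⟨b, hb⟩ => hb ▸ b.2⟩
  let Φ₁ : A ⊗[B] A →ₐ[k] (A ⊗[B] (A ⊗[k] (A ⧸ I))) := (Algebra.TensorProduct.map (AlgHom.id B A) dB).restrictScalars k
  let Φ₀ : A ⊗[B] A →ₐ[k] (A ⊗[B] (A ⊗[k] (A ⧸ I))) := (Algebra.TensorProduct.map (AlgHom.id B A) iB).restrictScalars k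
  let iR : A ⊗[k] (A ⧸ I) →ₐ[k] (A ⊗[B] (A ⊗[k] (A ⧸ I))) :=
    (Algebra.TensorProduct.includeRight : A ⊗[k] (A ⧸ I) →ₐ[B] (A ⊗[B] (A ⊗[k] (A ⧸ I)))).restrictScalars k
  let n : Pt k A (A ⊗[B] (A ⊗[k] (A ⧸ I))) := push (R' := A ⊗[B] (A ⊗[k] (A ⧸ I))) iR (ptN (k := k) I A)
  have hX : push (R' := A ⊗[B] (A ⊗[k] (A ⧸ I))) Φ₁ x = push (R' := A ⊗[B] (A ⊗[k] (A ⧸ I))) Φ₀ x := WithConv.ext (AlgHom.ext fun a => by
    change Φ₁ (a ⊗ₜ[B] (1 : A)) = Φ₀ (a ⊗ₜ[B] (1 : A))
    simp [Φ₁, Φ₀])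
  have hY : push (R' := A ⊗[B] (A ⊗[k] (A ⧸ I))) Φ₁ y = push (R' := A ⊗[B] (A ⊗[k] (A ⧸ I))) Φ₀ y * n := by
    have h1 : push (R' := A ⊗[B] (A ⊗[k] (A ⧸ I))) Φ₁ y = push (R' := A ⊗[B] (A ⊗[k] (A ⧸ I))) iR (toConv (dbar (k := k) I)) := WithConv.ext (AlgHom.ext fun a => rfl)
    have h2 : push (R' := A ⊗[B] (A ⊗[k] (A ⧸ I))) Φ₀ y = push (R' := A ⊗[B] (A ⊗[k] (A ⧸ I))) iR (ptL (k := k) (A := A) (A ⧸ I)) := WithConv.ext (AlgHom.ext fun a => rfl)
    rw [h1, h2, ← push_mul, dbar_eq]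
  have hF : Φ₁ F = Φ₀ F := by
    change (push (R' := A ⊗[B] (A ⊗[k] (A ⧸ I))) Φ₁ (x⁻¹ * y)) f = (push (R' := A ⊗[B] (A ⊗[k] (A ⧸ I))) Φ₀ (x⁻¹ * y)) f
    have e : push (R' := A ⊗[B] (A ⊗[k] (A ⧸ I))) Φ₁ (x⁻¹ * y) = push (R' := A ⊗[B] (A ⊗[k] (A ⧸ I))) Φ₀ (x⁻¹ * y) * n := by
      rw [push_mul, push_mul, push_inv, push_inv, hX, hY, mul_assoc]
    rw [e]
    exact hf _ _ (hK.push (R' := A ⊗[B] (A ⊗[k] (A ⧸ I))) Φ₀) ((inN_ptN (k := k) I A).push (R' := A ⊗[B] (A ⊗[k] (A ⧸ I))) iR)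
  obtain ⟨z, hz⟩ := (Module.Flat.lTensor_exact A hex F).1 (by
    have e : ∀ w : A ⊗[B] A, (dB.toLinearMap - iB.toLinearMap).lTensor A w = Φ₁ w - Φ₀ w := by
      intro w
      induction w using TensorProduct.induction_on with
      | zero => simp
      | tmul p q =>
        simp only [LinearMap.lTensor_tmul, LinearMap.sub_apply, TensorProduct.tmul_sub]
        rfl
      | add p q hp hq => simp only [map_add, hp, hq]; abel
    rw [e, hF, sub_self])
  obtain ⟨a, ha⟩ : ∃ a : A, F = a ⊗ₜ[B] (1 : A) := by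
    rw [← hz]
    clear hz
    induction z using TensorProduct.induction_on with
    | zero => exact ⟨0, by simp⟩
    | tmul p b =>
      refine ⟨b • p, ?_⟩
      rw [LinearMap.lTensor_tmul, TensorProduct.smul_tmul, Algebra.linearMap_apply, Algebra.algebraMap_eq_smul_one]
    | add p q hp hq =>
      obtain ⟨a, ha⟩ := hp
      obtain ⟨c, hc⟩ := hq
      exact ⟨a + c, by rw [map_add, ha, hc, TensorProduct.add_tmul]⟩
  -- the diagonal
  let m : A ⊗[B] A →ₐ[k] A := (Algebra.TensorProduct.lmul' (S := A) B).restrictScalars k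
  have hm : push m (x⁻¹ * y) = 1 := by
    have h1 : push m x = toConv (AlgHom.id k A) := WithConv.ext (AlgHom.ext fun c => by
      change m (c ⊗ₜ[B] (1 : A)) = c
      simp [m])
    have h2 : push m y = toConv (AlgHom.id k A) := WithConv.ext (AlgHom.ext fun c => by
      change m ((1 : A) ⊗ₜ[B] c) = c
      simp [m])
    rw [push_mul, push_inv, h1, h2, inv_mul_cancel]
  have haε : a = algebraMap k A (CoalgebraStruct.counit f) := by
    have h1 : m F = (push m (x⁻¹ * y)) f := rfl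
    rw [hm, one_apply, ha] at h1
    simpa [m] using h1
  -- evaluation at `(1, g)`
  let ρB : B →+* R := (algebraMap k R).comp ((Bialgebra.counitAlgHom k A).comp B.val).toRingHom
  letI : Algebra B R := ρB.toAlgebra
  let e1 : A →ₐ[B] R :=
    { toRingHom := (1 : Pt k A R).ofConv.toRingHom
      commutes' := fun b => one_apply (b : A) }
  let eg : A →ₐ[B] R :=
    { toRingHom := g.ofConv.toRingHom
      commutes' := fun b => hg b b.2 }
  let L : A ⊗[B] A →+* R := (Algebra.TensorProduct.lift e1 eg fun _ _ => Commute.all _ _).toRingHom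
  let L' : A ⊗[B] A →ₐ[k] R :=
    { L with
      commutes' := fun c => by
        change L ((algebraMap k A c) ⊗ₜ[B] (1 : A)) = _
        change e1 (algebraMap k A c) * eg 1 = _
        rw [map_one, mul_one]
        exact (1 : Pt k A R).ofConv.commutes c }
  have hL : push L' (x⁻¹ * y) = g := by
    have h1 : push L' x = 1 := WithConv.ext (AlgHom.ext fun c => by
      change e1 c * eg 1 = (1 : Pt k A R) c
      rw [map_one, mul_one]; rfl)
    have h2 : push L' y = g := WithConv.ext (AlgHom.ext fun c => by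
      change e1 1 * eg c = g c
      rw [map_one, one_mul]; rfl)
    rw [push_mul, push_inv, h1, h2, inv_one, one_mul]
  have h1 : L' F = (push L' (x⁻¹ * y)) f := rfl
  rw [hL, ha, haε] at h1
  rw [← h1]
  change e1 (algebraMap k A _) * eg 1 = _
  rw [map_one, mul_one]
  exact (1 : Pt k A R).ofConv.commutes _

end Groth.Agent.Takeuchi
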