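import Groth.Agent.Takeuchi.Main
import Groth.Agent.GrpField.AffImageHopf
import Groth.Agent.UnipFilt.Basic
import Groth.Prelude.Def_AlgGrp

/-!
# Affine quotients of affine algebraic groups by normal subgroups
-/

set_option autoImplicit false

universe u

open CategoryTheory CategoryTheory.Limits MonoidalCategory CartesianMonoidalCategory MonObj GrpObj AlgebraicGeometry
open TensorProduct WithConv
open scoped Groth.Agent.Takeuchi

noncomputable section

namespace Groth.Agent.Takeuchi

variable {k : Type u} [Field k]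

/-- The scheme of an algebra. -/
abbrev specOv (k : Type u) [Field k] (R : Type u) [CommRing R] [Algebra k R] :
    Over (Spec (CommRingCat.of k)) :=
  (Spec (CommRingCat.of R)).asOver (Spec (CommRingCat.of k))

theorem isPushout_augIdeal {A : Type u} [CommRing A] [HopfAlgebra k A] (B : Subalgebra k A) (J : Ideal A)
    (hJ : J = SGA3.augIdealSpan k A B) :
    IsPushout (CommRingCat.ofHom B.val.toRingHom)
      (CommRingCat.ofHom ((Bialgebra.counitAlgHom k A).comp B.val).toRingHom)
      (CommRingCat.ofHom (Ideal.Quotient.mk J)) (CommRingCat.ofHom (algebraMap k (A ⧸ J))) := by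
  have hmk : ∀ b : B, Ideal.Quotient.mk J (b : A) = algebraMap k (A ⧸ J) (CoalgebraStruct.counit (b : A)) := by
    intro b
    subst hJ
    exact inK_mk (k := k) B b b.2
  refine ⟨⟨?_⟩, ⟨PushoutCocone.isColimitAux' _ fun s => ?_⟩⟩
  · ext b
    exact hmk b
  · have hs : ∀ b : B, s.inl.hom (b : A) = s.inr.hom (CoalgebraStruct.counit (R := k) (b : A)) := fun b =>
      congr($(s.condition).hom b)
    have hk : ∀ a ∈ J, s.inl.hom a = 0 := by
      intro a ha
      rw [hJ] at ha
      refine RingHom.mem_ker.1 ((Ideal.span_le.2 ?_ : _ ≤ RingHom.ker s.inl.hom) ha)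
      rintro b ⟨hb, h0⟩
      change s.inl.hom b = 0
      rw [hs ⟨b, hb⟩]
      change s.inr.hom (CoalgebraStruct.counit (R := k) b) = 0
      rw [h0, map_zero]
    have hr : ∀ c : k, s.inl.hom (algebraMap k A c) = s.inr.hom c := fun c => by
      refine (hs (algebraMap k B c)).trans ?_
      rw [Subalgebra.coe_algebraMap, Bialgebra.counit_algebraMap]
    refine ⟨CommRingCat.ofHom (Ideal.Quotient.lift J s.inl.hom hk), ?_, ?_, fun {m} h1 _ => ?_⟩
    · ext a
      rfl
    · ext c
      exact hr c
    · refine CommRingCat.hom_ext (Ideal.Quotient.ringHom_ext (RingHom.ext fun (a : A) => ?_))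
      exact congr($(h1).hom a)

set_option backward.isDefEq.respectTransparency false in
set_option backward.isDefEq.respectTransparency.types false in
/-- **Affine quotients of affine algebraic groups by normal closed subgroups.** -/
theorem exists_quot_spec {A : Type u} [CommRing A] [HopfAlgebra k A] [Algebra.FiniteType k A]
    {N : Over (Spec (CommRingCat.of k))} [GrpObj N] (i : N ⟶ specOv k A) [IsMonHom i]
    [IsClosedImmersion i.left] (hN : AlgGrp.IsNormalHom i) :
    ∃ (Q : Over (Spec (CommRingCat.of k))) (_ : GrpObj Q) (q : specOv k A ⟶ Q), IsMonHom q ∧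
      IsAffine Q.left ∧ LocallyOfFiniteType Q.hom ∧ Flat q.left ∧ Surjective q.left ∧
      AlgGrp.IsKernel i q := by
  classical
  obtain ⟨I, e, he⟩ := (IsClosedImmersion.Spec_iff (R := CommRingCat.of A) (f := i.left)).1 ‹IsClosedImmersion i.left›
  haveI : Mono i.left := inferInstance
  haveI : Mono i := Over.mono_of_mono_left i
  have hcomp : e.inv ≫ N.hom = Spec.map (CommRingCat.ofHom (algebraMap k (A ⧸ I))) := by
    rw [← Over.w i, he, Category.assoc, Iso.inv_hom_id_assoc]
    change Spec.map _ ≫ Spec.map _ = _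
    rw [← Spec.map_comp]
    rfl
  -- points of the subgroup
  have hpt : ∀ (R : Type u) [CommRing R] [Algebra k R] (g : Pt k A R),
      (∃ m : specOv k R ⟶ N, m ≫ i = Spec.mapMulEquiv g) ↔ InN I g := by
    intro R _ _ g
    constructor
    · rintro ⟨m, hm⟩ a ha
      have h1 : Spec.map (CommRingCat.ofHom g.ofConv.toRingHom) =
          Spec.map (CommRingCat.ofHom (Ideal.Quotient.mk I) ≫ Spec.preimage (m.left ≫ e.hom)) := by
        rw [Spec.map_comp, Spec.map_preimage, Category.assoc, ← he, ← Over.comp_left, hm]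
        rfl
      have h2 := congr($(Spec.map_injective h1).hom a)
      refine h2.trans ?_
      change (Spec.preimage (m.left ≫ e.hom)).hom (Ideal.Quotient.mk I a) = 0
      rw [Ideal.Quotient.eq_zero_iff_mem.2 ha, map_zero]
    · intro hg
      refine ⟨Over.homMk (Spec.map (CommRingCat.ofHom (bar hg).toRingHom) ≫ e.inv) ?_, ?_⟩
      · rw [Category.assoc, hcomp, ← Spec.map_comp, ← CommRingCat.ofHom_comp]
        exact congrArg (fun r => Spec.map (CommRingCat.ofHom r)) (RingHom.ext fun c => (bar hg).commutes c)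
      · ext1
        change (Spec.map _ ≫ e.inv) ≫ i.left = _
        rw [he, Category.assoc, Iso.inv_hom_id_assoc, ← Spec.map_comp]
        rfl
  have hone : ∀ (R : Type u) [CommRing R] [Algebra k R], InN I (1 : Pt k A R) := fun R _ _ =>
    (hpt R 1).1 ⟨1, by rw [MonObj.one_comp, map_one]⟩
  have hmul : ∀ {R : Type u} [CommRing R] [Algebra k R] {g h : Pt k A R},
      InN I g → InN I h → InN I (g * h) := by
    intro R _ _ g h hg hh
    obtain ⟨a, ha⟩ := (hpt R g).2 hg
    obtain ⟨b, hb⟩ := (hpt R h).2 hh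
    exact (hpt R _).1 ⟨a * b, by rw [MonObj.mul_comp, ha, hb, map_mul]⟩
  have hinv : ∀ {R : Type u} [CommRing R] [Algebra k R] {g : Pt k A R}, InN I g → InN I g⁻¹ := by
    intro R _ _ g hg
    obtain ⟨a, ha⟩ := (hpt R g).2 hg
    exact (hpt R _).1 ⟨a⁻¹, by rw [GrpObj.inv_comp, ha]; exact (map_inv Spec.mapMulEquiv g).symm⟩
  have hπ : InN I (toConv (Ideal.Quotient.mkₐ k I) : Pt k A (A ⧸ I)) := fun a ha =>
    Ideal.Quotient.eq_zero_iff_mem.2 ha
  haveI : I.IsHopfIdeal k :=
    { counit_eq_zero := fun a ha => by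
        have := hone k a ha
        rw [one_apply] at this
        simpa using this
      map_mkQ_comul_eq_zero := fun a ha => by
        have h0 := hmul (R := (A ⧸ I) ⊗[k] (A ⧸ I))
          (hπ.push Algebra.TensorProduct.includeLeft) (hπ.push Algebra.TensorProduct.includeRight) a ha
        rw [mul_apply] at h0
        refine Eq.trans ?_ h0
        generalize CoalgebraStruct.comul (R := k) (A := A) a = t
        induction t using TensorProduct.induction_on with
        | zero => simp
        | tmul x y => simp <;> rfl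
        | add x y hx hy => simp only [map_add, hx, hy]
      antipode_mem := fun a ha => Ideal.Quotient.eq_zero_iff_mem.1 (hinv hπ a ha) }
  have hI : SGA3.IsNormalHopfIdeal k A I := by
    intro R _ _ g h hh a ha
    rw [conv3_eq]
    obtain ⟨m, hm⟩ := (hpt R (toConv h)).2 hh
    obtain ⟨m', hm'⟩ := hN (specOv k R) (Spec.mapMulEquiv (toConv g)) m
    refine (hpt R (toConv g * toConv h * (toConv g)⁻¹)).1 ⟨m', ?_⟩ a ha
    rw [← hm', hm, map_mul, map_mul, map_inv]
  -- the invariants
  let B := inv k I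
  haveI : IsNoetherianRing A := Algebra.FiniteType.isNoetherianRing k A
  obtain ⟨s, hs, hsI⟩ := (Submodule.fg_span_iff_fg_span_finset_subset (R := A)
    {a : A | a ∈ B ∧ CoalgebraStruct.counit (R := k) (A := A) a = 0}).1 (IsNoetherian.noetherian _)
  have hB := isSubHopf_inv (I := I) hI
  have hΔ : ∀ b ∈ B, CoalgebraStruct.comul (R := k) b ∈ (FinHopf.subIncl₂ B).range := by
    intro b hb
    obtain ⟨t, ht⟩ := hB.1 b hb
    exact ⟨t, ht⟩
  letI hH : HopfAlgebra k B := FinHopf.subHopf B hΔ hB.2
  obtain ⟨B₁, hsB, hfg₁, hB₁⟩ := HopfRange.exists_fg_isSubHopf (k := k) (A := B)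
    (s.subtype (fun a => a ∈ B))
  let φ : B →ₐc[k] A := BialgHom.ofAlgHom B.val (by ext b; rfl) (FinHopf.subIncl₂_comp_subComul B hΔ)
  -- finite generation of the invariants
  let B₂ : Subalgebra k A := B₁.map B.val
  have hB₂fg : B₂.FG := hfg₁.map _
  have hB₂ : Groth.Agent.FlatSub.IsSubHopf k B₂ := by
    refine ⟨?_, ?_⟩
    · rintro _ ⟨b, hb, rfl⟩
      obtain ⟨t, ht⟩ := hB₁.1 b hb
      have h1 := congr($(FinHopf.subIncl₂_comp_subComul B hΔ) b)
      refine ⟨TensorProduct.map (((B.val.comp B₁.val).codRestrict B₂ fun x => ⟨x.1, x.2, rfl⟩).toLinearMap)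
        (((B.val.comp B₁.val).codRestrict B₂ fun x => ⟨x.1, x.2, rfl⟩).toLinearMap) t, ?_⟩
      refine Eq.trans ?_ (Eq.trans (congrArg (FinHopf.subIncl₂ B) ht) h1)
      clear ht
      induction t using TensorProduct.induction_on with
      | zero => simp
      | tmul x y => rfl
      | add x y hx hy => simp only [map_add, hx, hy]
    · rintro _ ⟨b, hb, rfl⟩
      exact ⟨_, hB₁.2 b hb, rfl⟩
  have hIB₂ : I = SGA3.augIdealSpan k A B₂ := by
    refine le_antisymm ?_ ((Ideal.span_mono ?_).trans (augIdealSpan_inv_le (k := k) I))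
    · rw [eq_augIdealSpan I hI]
      change Submodule.span A {a : A | a ∈ B ∧ _} ≤ _
      rw [hsI]
      refine Ideal.span_mono fun a ha => ⟨⟨⟨a, (hs ha).1⟩, hsB (Finset.mem_subtype.2 ha), rfl⟩, (hs ha).2⟩
    · rintro a ⟨⟨b, -, rfl⟩, h0⟩
      exact ⟨b.2, h0⟩
  have hBeq : B₂ = B := by
    refine le_antisymm (by rintro _ ⟨b, -, rfl⟩; exact b.2) fun a ha => ?_
    refine UnipFilt.coinv_mem hB₂ I (le_of_eq hIB₂) ?_
    have hex : Function.Exact ((I.restrictScalars k).subtype.lTensor A)
        ((Ideal.Quotient.mkₐ k I).toLinearMap.lTensor A) :=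
      Module.Flat.lTensor_exact A fun y => ⟨fun h => ⟨⟨y, Ideal.Quotient.eq_zero_iff_mem.1 h⟩, rfl⟩,
        fun ⟨z, hz⟩ => hz ▸ Ideal.Quotient.eq_zero_iff_mem.2 z.2⟩
    refine (hex _).1 ?_
    rw [map_sub, sub_eq_zero]
    have e : ∀ z : A ⊗[k] A, (Ideal.Quotient.mkₐ k I).toLinearMap.lTensor A z =
        Algebra.TensorProduct.map (AlgHom.id k A) (Ideal.Quotient.mkₐ k I) z := by
      intro z
      induction z using TensorProduct.induction_on with
      | zero => simp
      | tmul p q => simp
      | add p q hp hq => simp only [map_add, hp, hq]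
    refine (e _).trans ((mem_inv I).1 ha |>.trans ?_)
    simp
  have hBfg : B.FG := hBeq ▸ hB₂fg
  -- the quotient
  let B' : CommRingCat.{u} := CommRingCat.of B
  let D := specOv k B'
  let mm := (hopfSpec (CommRingCat.of k)).map (CommHopfAlgCat.ofHom φ).op
  let v : specOv k A ⟶ D := mm.hom.hom
  haveI : IsMonHom v := mm.hom.isMonHom_hom
  have hv : v.left = Spec.map (CommRingCat.ofHom B.val.toRingHom) := rfl
  haveI : Algebra.FiniteType k B := B.fg_iff_finiteType.1 hBfg
  haveI : IsAffine D.left := inferInstanceAs (IsAffine (Spec B'))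
  haveI : LocallyOfFiniteType D.hom :=
    inferInstanceAs (LocallyOfFiniteType (Spec B' ↘ Spec (CommRingCat.of k)))
  haveI := Groth.Agent.FlatSub.faithfullyFlat hB
  have hfl : (B.val.toRingHom).FaithfullyFlat := RingHom.faithfullyFlat_algebraMap_iff.2 ‹_›
  have hfs := (AlgebraicGeometry.flat_and_surjective_SpecMap_iff (CommRingCat.ofHom B.val.toRingHom)).2 hfl
  refine ⟨D, inferInstance, v, inferInstance, inferInstance, inferInstance, ?_, ?_, ?_⟩
  · rw [hv]; exact hfs.1
  · rw [hv]; exact hfs.2
  · have hp : IsPullback i.left (toUnit N).left v.left η[D].left := by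
      refine IsPullback.of_iso (isPullback_SpecMap_of_isPushout _ _ _ _
        (isPushout_augIdeal B I (eq_augIdealSpan I hI))) e.symm (Iso.refl _) (Iso.refl _) (Iso.refl _)
        ?_ ?_ ?_ ?_
      · change Spec.map _ ≫ 𝟙 _ = e.inv ≫ i.left
        rw [Category.comp_id, he, Iso.inv_hom_id_assoc]
      · change Spec.map _ ≫ 𝟙 _ = e.inv ≫ (toUnit N).left
        rw [Category.comp_id, Over.toUnit_left, hcomp]
      · change Spec.map _ ≫ 𝟙 _ = 𝟙 _ ≫ v.left
        rw [Category.comp_id, Category.id_comp, hv]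
      · change Spec.map _ ≫ 𝟙 _ = 𝟙 _ ≫ η[D].left
        rw [Category.comp_id, Category.id_comp, one_spec_asOver_spec_left]
        rfl
    exact IsPullback.of_map (Over.forget _) ((Over.forget _).map_injective (by
      rw [Functor.map_comp, Functor.map_comp]
      exact hp.w)) hp

end Groth.Agent.Takeuchi
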